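import Groth.Prelude.Def_Omega3
import Groth.Agent.KRLib.Ideal
import Groth.Agent.RegImmKindLib.KindFlat
import Mathlib.RingTheory.Localization.Algebra
import Mathlib.RingTheory.Localization.Ideal
import Mathlib.RingTheory.Polynomial.Basic
import Mathlib.RingTheory.Ideal.Cotangent

/-!
# Square-zero ideals and conormal modules of complete intersections

For a universal thickening `A' → A` with kernel `I` and a local complete intersection `A → B`, the module
`B ⊗ I` injects into the universal thickening of `B`.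
-/

set_option autoImplicit false
set_option linter.style.haveILetI false
universe u

open TensorProduct

noncomputable section

namespace LciTransLib

section Sq

variable {L L₀ : Type u} [CommRing L] [CommRing L₀]

/-- Lifts of an `H₁`-regular sequence along a nilpotent extension meet the extension minimally. -/
theorem sq_inf_le (π : L →+* L₀) (hπ : Function.Surjective π) {c : ℕ} (f : Fin c → L)
    (hf : CAlgX.IsH1Regular fun i => π (f i)) :
    (Ideal.span (Set.range f) ⊔ RingHom.ker π) ^ 2 ⊓ RingHom.ker π ≤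
      (Ideal.span (Set.range f) ⊔ RingHom.ker π) * RingHom.ker π := by
  set F := Ideal.span (Set.range f)
  set K := RingHom.ker π
  have hdec : (F ⊔ K) ^ 2 ≤ F ⊔ (F ⊔ K) * K := by
    rw [pow_two]
    exact (Ideal.mul_sup (F ⊔ K) F K).le.trans (sup_le (le_sup_of_le_left Ideal.mul_le_right) le_sup_right)
  rintro x ⟨hx, hxK⟩
  obtain ⟨a, ha, b, hb, rfl⟩ := Submodule.mem_sup.1 (hdec hx)
  refine add_mem ?_ hb
  have haK : π a = 0 := by
    have hbK : π b = 0 := (Ideal.mul_le_right : (F ⊔ K) * K ≤ K) hb
    have h : π (a + b) = 0 := hxK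
    rwa [map_add, hbK, add_zero] at h
  obtain ⟨v, rfl⟩ := (Ideal.mem_span_range_iff_exists_fun).1 ha
  have h0 := hf (fun i => π (v i)) (by simpa [map_sum, map_mul] using haK)
  have key : ∀ y ∈ Submodule.span L₀
      {w : Fin c → L₀ | ∃ i j : Fin c, w = Pi.single i (π (f j)) - Pi.single j (π (f i))},
      ∃ w : Fin c → L, (fun i => π (w i)) = y ∧ ∑ i, w i * f i = 0 := by
    intro y hy
    induction hy using Submodule.span_induction with
    | mem y hy =>
      obtain ⟨i, j, rfl⟩ := hy
      refine ⟨Pi.single i (f j) - Pi.single j (f i), ?_, ?_⟩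
      · funext k
        simp [Pi.single_apply, apply_ite π]
      · simp [sub_mul, mul_sub, Finset.sum_sub_distrib, Pi.single_apply, ite_mul, mul_ite, mul_comm]
    | zero => exact ⟨0, by funext k; simp, by simp⟩
    | add y y' _ _ hy hy' =>
      obtain ⟨w, rfl, hw⟩ := hy
      obtain ⟨w', rfl, hw'⟩ := hy'
      exact ⟨w + w', by funext k; simp, by simp [add_mul, Finset.sum_add_distrib, hw, hw']⟩
    | smul r y _ hy =>
      obtain ⟨w, rfl, hw⟩ := hy
      obtain ⟨r', rfl⟩ := hπ r
      exact ⟨r' • w, by funext k; simp, by simp [mul_assoc, ← Finset.mul_sum, hw]⟩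
  obtain ⟨w, hw, hw0⟩ := key _ h0
  have he : ∑ i, v i * f i = ∑ i, f i * (v i - w i) := by
    rw [← sub_zero (∑ i, v i * f i), ← hw0, ← Finset.sum_sub_distrib]
    exact Finset.sum_congr rfl fun i _ => by ring
  rw [he]
  refine Ideal.sum_mem _ fun i _ => Ideal.mul_mem_mul (le_sup_left (α := Ideal L) (Ideal.subset_span ⟨i, rfl⟩)) ?_
  rw [RingHom.mem_ker, map_sub, congrFun hw i, sub_self]

/-- The same for a locally Koszul-regular ideal. -/
theorem sq_inf_le_of_locKR (π : L →+* L₀) (hπ : Function.Surjective π) (J₀ : Ideal L₀) (hJ₀ : KRLib.LocKR J₀) :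
    J₀.comap π ^ 2 ⊓ RingHom.ker π ≤ J₀.comap π * RingHom.ker π := by
  set J := J₀.comap π
  set K := RingHom.ker π
  rintro x ⟨hx, hxK⟩
  let C : Ideal L := Submodule.colon (J * K) {x}
  have hC : ∀ g, g ∈ C ↔ g * x ∈ J * K := fun g => by simp [C, Submodule.mem_colon_singleton]
  suffices hone : (1 : L) ∈ C by simpa using (hC 1).1 hone
  by_contra hne
  obtain ⟨p, hp, hCp⟩ := C.exists_le_maximal (fun h => hne (h ▸ Submodule.mem_top))
  have hJp : J ≤ p := fun g hg => hCp ((hC g).2 (Ideal.mul_mem_mul hg hxK))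
  have hKp : K ≤ p := (Ideal.comap_mono bot_le).trans hJp
  haveI := hp.isPrime
  haveI : (p.map π).IsPrime := Ideal.map_isPrime_of_surjective hπ hKp
  have hJ₀p : J₀ ≤ p.map π := by
    rw [← Ideal.map_comap_of_surjective π hπ J₀]
    exact Ideal.map_mono hJp
  obtain ⟨g₀, hg₀, n, F, hF, hspan⟩ := hJ₀ (p.map π) inferInstance hJ₀p
  obtain ⟨g, rfl⟩ := hπ g₀
  let πL : Localization.Away g →+* Localization.Away (π g) := IsLocalization.Away.map _ _ π g
  have hπL : ∀ y, πL (algebraMap L (Localization.Away g) y) = algebraMap L₀ (Localization.Away (π g)) (π y) :=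
    fun y => IsLocalization.map_eq _ y
  have hsurj : Function.Surjective πL := by
    intro y
    obtain ⟨a, ⟨_, k, rfl⟩, rfl⟩ := IsLocalization.exists_mk'_eq (Submonoid.powers (π g)) y
    obtain ⟨a', rfl⟩ := hπ a
    refine ⟨IsLocalization.mk' _ a' (⟨g ^ k, k, rfl⟩ : Submonoid.powers g), ?_⟩
    refine (IsLocalization.map_mk' _ _ _).trans ?_
    congr 1
    exact Subtype.ext (map_pow π g k)
  have hker : RingHom.ker πL = K.map (algebraMap L (Localization.Away g)) :=
    IsLocalization.ker_map _ π (Submonoid.map_powers π.toMonoidHom g)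
  set JL := J.map (algebraMap L (Localization.Away g))
  have hJL : JL.map πL = J₀.map (algebraMap L₀ (Localization.Away (π g))) := by
    rw [Ideal.map_map, show πL.comp (algebraMap L (Localization.Away g)) =
      (algebraMap L₀ (Localization.Away (π g))).comp π from RingHom.ext hπL, ← Ideal.map_map,
      Ideal.map_comap_of_surjective π hπ]
  have hKJ : RingHom.ker πL ≤ JL := hker.le.trans (Ideal.map_mono (Ideal.comap_mono bot_le))
  choose f hf using fun i => hsurj (F i)
  have hFJ : Ideal.span (Set.range f) ⊔ RingHom.ker πL = JL := by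
    have h1 : Ideal.span (Set.range f) ⊔ RingHom.ker πL = ((Ideal.span (Set.range f)).map πL).comap πL :=
      (Ideal.comap_map_of_surjective _ hsurj _).symm
    have h2 : JL = (JL.map πL).comap πL :=
      ((Ideal.comap_map_of_surjective _ hsurj _).trans (sup_eq_left.2 hKJ)).symm
    rw [h1, h2, hJL, ← hspan, Ideal.map_span, ← Set.range_comp]
    exact congrArg (fun e => Ideal.comap πL (Ideal.span (Set.range e))) (funext hf)
  have hreg : CAlgX.IsH1Regular fun i => πL (f i) := by
    rw [show (fun i => πL (f i)) = F from funext hf]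
    exact RegImmKindLib.isH1Regular_of_isExactK hF
  have h := sq_inf_le πL hsurj f hreg (x := algebraMap L (Localization.Away g) x) ⟨?_, ?_⟩
  · rw [hFJ, hker, ← Ideal.map_mul] at h
    obtain ⟨_, ⟨k, rfl⟩, hk⟩ := (IsLocalization.algebraMap_mem_map_algebraMap_iff (Submonoid.powers g) _ _ _).1 h
    have hgp : g ∈ p := hp.isPrime.mem_of_pow_mem k (hCp ((hC _).2 hk))
    exact hg₀ (Ideal.mem_map_of_mem π hgp)
  · rw [hFJ, ← Ideal.map_pow]
    exact Ideal.mem_map_of_mem _ hx
  · rw [hker]
    exact Ideal.mem_map_of_mem _ hxK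

end Sq

section Inj

variable {R A' A B' B : Type u} [CommRing R] [CommRing A'] [CommRing A] [CommRing B'] [CommRing B]
  [Algebra R A'] [Algebra R A] [Algebra R B'] [Algebra R B] [Algebra A' A] [Algebra A' B] [Algebra A B]
  [Algebra A' B'] [Algebra B' B] [IsScalarTower R A' A] [IsScalarTower A' A B] [IsScalarTower R A' B']
  [IsScalarTower A' B' B] [IsScalarTower R B' B] [IsScalarTower R A' B]

variable (C : Type u) [CommRing C] [Algebra A' C]

/-- Multiplication of a tensor with the ideal into the algebra. -/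
def mul' (I : Ideal A') : C ⊗[A'] I →ₗ[A'] C :=
  (TensorProduct.rid A' C).toLinearMap ∘ₗ I.subtype.lTensor C

variable {C}

@[simp]
theorem mul'_tmul (I : Ideal A') (c : C) (m : I) : mul' C I (c ⊗ₜ m) = (m : A') • c := by
  simp [mul']

theorem mul'_map {D : Type u} [CommRing D] [Algebra A' D] (g : C →ₐ[A'] D) (I : Ideal A') (z : C ⊗[A'] I) :
    mul' D I (g.toLinearMap.rTensor I z) = g (mul' C I z) := by
  induction z using TensorProduct.induction_on with
  | zero => simp
  | tmul c m => simp
  | add a b ha hb => simp [map_add, ha, hb]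

theorem mul'_smul (I : Ideal A') (r : C) (w : C ⊗[A'] I) : mul' C I (r • w) = r * mul' C I w := by
  induction w using TensorProduct.induction_on with
  | zero => simp
  | tmul c m => simp [TensorProduct.smul_tmul']
  | add a b ha hb => rw [smul_add, map_add, map_add, ha, hb, mul_add]

theorem rTensor_smul {D : Type u} [CommRing D] [Algebra A' D] (g : C →ₐ[A'] D) (I : Ideal A') (r : C)
    (w : C ⊗[A'] I) : g.toLinearMap.rTensor I (r • w) = g r • g.toLinearMap.rTensor I w := by
  induction w using TensorProduct.induction_on with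
  | zero => simp
  | tmul c m => simp [TensorProduct.smul_tmul']
  | add a b ha hb => rw [smul_add, map_add, map_add, ha, hb, smul_add]

/-- Multiples of the presentation's kernel die in the quotient. -/
theorem exists_mul'_eq {D : Type u} [CommRing D] [Algebra A' D] (φ : C →ₐ[A'] D) (I : Ideal A') (y : C)
    (hy : y ∈ RingHom.ker φ * I.map (algebraMap A' C)) :
    ∃ w, mul' C I w = y ∧ φ.toLinearMap.rTensor I w = 0 := by
  have hrange : ∀ t ∈ I.map (algebraMap A' C), ∃ w, mul' C I w = t := by
    intro t ht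
    induction ht using Submodule.span_induction with
    | mem t ht =>
      obtain ⟨a, ha, rfl⟩ := ht
      exact ⟨1 ⊗ₜ ⟨a, ha⟩, by simp [Algebra.algebraMap_eq_smul_one]⟩
    | zero => exact ⟨0, map_zero _⟩
    | add t t' _ _ h h' =>
      obtain ⟨w, rfl⟩ := h
      obtain ⟨w', rfl⟩ := h'
      exact ⟨w + w', map_add _ _ _⟩
    | smul r t _ h =>
      obtain ⟨w, rfl⟩ := h
      exact ⟨r • w, mul'_smul I r w⟩
  refine Submodule.mul_induction_on hy (fun r hr t ht => ?_) fun a b ⟨w, hw, hw'⟩ ⟨v, hv, hv'⟩ =>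
    ⟨w + v, by rw [map_add, hw, hv], by rw [map_add, hw', hv', add_zero]⟩
  obtain ⟨w, rfl⟩ := hrange t ht
  exact ⟨r • w, mul'_smul I r w, by rw [rTensor_smul, RingHom.mem_ker.1 hr, zero_smul]⟩

/-- **Injectivity into the thickening of a complete intersection.** -/
theorem tmul_eq_zero (hA : OmegaSh.IsUnivThickeningRing R A A' (IsScalarTower.toAlgHom R A' A))
    (hB : OmegaSh.IsUnivThickeningRing R B B' (IsScalarTower.toAlgHom R B' B)) (hlci : LCI.IsLCI A B)
    (I : Ideal A') (hI : I = RingHom.ker (algebraMap A' A)) (z : B' ⊗[A'] I) (hz : mul' B' I z = 0) :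
    (IsScalarTower.toAlgHom A' B' B).toLinearMap.rTensor I z = 0 := by
  obtain ⟨hAs, hAsq, hAu⟩ := hA
  have hsA : Function.Surjective (algebraMap A' A) := hAs
  obtain ⟨-, n, f, hf, hk⟩ := hlci
  let Q := MvPolynomial (Fin n) A'
  let π : Q →+* MvPolynomial (Fin n) A := MvPolynomial.map (algebraMap A' A)
  let φ : Q →ₐ[A'] B := MvPolynomial.aeval fun i => f (MvPolynomial.X i)
  have hφπ : φ.toRingHom = f.toRingHom.comp π := by
    refine MvPolynomial.ringHom_ext (fun a => ?_) fun i => ?_
    · change φ (MvPolynomial.C a) = f (π (MvPolynomial.C a))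
      rw [MvPolynomial.aeval_C, MvPolynomial.map_C]
      exact ((f.commutes _).trans (IsScalarTower.algebraMap_apply A' A B a).symm).symm
    · change φ (MvPolynomial.X i) = f (π (MvPolynomial.X i))
      rw [MvPolynomial.aeval_X, MvPolynomial.map_X]
  have hπs : Function.Surjective π := MvPolynomial.map_surjective _ hsA
  have hφs : Function.Surjective φ := fun b => by
    obtain ⟨p, rfl⟩ := hf b
    obtain ⟨q, rfl⟩ := hπs p
    exact ⟨q, congr($hφπ q)⟩
  have hJ : RingHom.ker φ = (RingHom.ker f.toRingHom).comap π := by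
    ext q
    rw [RingHom.mem_ker, Ideal.mem_comap, RingHom.mem_ker]
    exact Eq.congr_left congr($hφπ q)
  have hK : RingHom.ker π = I.map (algebraMap A' Q) := by rw [hI]; exact MvPolynomial.ker_map _
  -- the test thickening
  let Cq := Q ⧸ RingHom.ker φ.toRingHom ^ 2
  let φR : Q →ₐ[R] B := φ.restrictScalars R
  let πC : Cq →ₐ[R] B := (φ.kerSquareLift).restrictScalars R
  have hπC : Function.Surjective πC := fun b => by
    obtain ⟨q, rfl⟩ := hφs b
    exact ⟨Ideal.Quotient.mk _ q, rfl⟩
  have hsqC : RingHom.ker πC ^ 2 = ⊥ := by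
    show RingHom.ker φ.kerSquareLift.toRingHom ^ 2 = ⊥
    rw [AlgHom.ker_kerSquareLift, Ideal.cotangentIdeal_square]
  let eC := Ideal.quotientKerAlgEquivOfSurjective hπC
  obtain ⟨β₀, hβ, -⟩ := hB.2.2 Cq (RingHom.ker πC) hsqC eC.symm.toAlgHom
  have hβπ : ∀ b', πC (β₀ b') = algebraMap B' B b' := fun b' =>
    (congrArg eC (AlgHom.congr_fun hβ b')).trans (eC.apply_symm_apply _)
  -- it is linear over the thickening below
  let aA : A →ₐ[R] Cq ⧸ RingHom.ker πC := eC.symm.toAlgHom.comp
    { (algebraMap A B) with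
      commutes' := fun r => by
        show algebraMap A B (algebraMap R A r) = algebraMap R B r
        rw [IsScalarTower.algebraMap_apply R A' A, ← IsScalarTower.algebraMap_apply A' A B,
          ← IsScalarTower.algebraMap_apply R A' B] }
  obtain ⟨α, -, hα⟩ := hAu Cq (RingHom.ker πC) hsqC aA
  have hlin : ∀ a, β₀ (algebraMap A' B' a) = algebraMap A' Cq a := by
    have h1 := hα (β₀.comp (IsScalarTower.toAlgHom R A' B')) (AlgHom.ext fun a => eC.injective (by
      refine (hβπ _).trans (Eq.trans ?_ (eC.apply_symm_apply _).symm)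
      show algebraMap B' B (algebraMap A' B' a) = algebraMap A B (algebraMap A' A a)
      rw [← IsScalarTower.algebraMap_apply, ← IsScalarTower.algebraMap_apply]))
    have h2 := hα (IsScalarTower.toAlgHom R A' Cq) (AlgHom.ext fun a => eC.injective (by
      refine Eq.trans ?_ (eC.apply_symm_apply _).symm
      show φ.kerSquareLift (algebraMap A' Cq a) = algebraMap A B (algebraMap A' A a)
      rw [AlgHom.commutes, ← IsScalarTower.algebraMap_apply]))
    exact fun a => AlgHom.congr_fun (h1.trans h2.symm) a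
  let β : B' →ₐ[A'] Cq := { β₀.toRingHom with commutes' := hlin }
  -- lift to the polynomial ring
  let mk : Q →ₐ[A'] Cq := Ideal.Quotient.mkₐ A' _
  obtain ⟨w, hw⟩ := LinearMap.rTensor_surjective I (g := mk.toLinearMap) Ideal.Quotient.mk_surjective
    (β.toLinearMap.rTensor I z)
  have h0 : mk (mul' Q I w) = 0 := by rw [← mul'_map, hw, mul'_map, hz, map_zero]
  have hsqI : mul' Q I w ∈ RingHom.ker φ ^ 2 ⊓ RingHom.ker π := by
    refine ⟨Ideal.Quotient.eq_zero_iff_mem.1 h0, ?_⟩
    show π (mul' Q I w) = 0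
    clear hw h0
    induction w using TensorProduct.induction_on with
    | zero => simp
    | tmul c m =>
      rw [mul'_tmul, Algebra.smul_def, map_mul, show π (algebraMap A' Q (m : A')) = 0 from
        (MvPolynomial.map_C (algebraMap A' A) _).trans
          (by rw [RingHom.mem_ker.1 (hI.le m.2), MvPolynomial.C_0]), zero_mul]
    | add a b ha hb => rw [map_add, map_add, ha, hb, add_zero]
  have hmem : mul' Q I w ∈ RingHom.ker φ * I.map (algebraMap A' Q) := by
    have h := sq_inf_le_of_locKR π hπs (RingHom.ker f.toRingHom) ((KRLib.locKR_iff _).2 hk)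
    rw [← hK, hJ]
    rw [hJ] at hsqI
    exact h hsqI
  obtain ⟨w', hw', hφw'⟩ := exists_mul'_eq φ I _ hmem
  have hinj : Function.Injective (mul' Q I) :=
    (TensorProduct.rid A' Q).injective.comp
      (Module.Flat.lTensor_preserves_injective_linearMap _ I.injective_subtype)
  rw [hinj hw'] at hφw'
  have hcomp : (φ.kerSquareLift.toLinearMap).rTensor I (mk.toLinearMap.rTensor I w) = φ.toLinearMap.rTensor I w := by
    rw [← LinearMap.rTensor_comp_apply]
    rfl
  rw [hw, hφw', ← LinearMap.rTensor_comp_apply] at hcomp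
  have hπβ : φ.kerSquareLift.toLinearMap ∘ₗ β.toLinearMap = (IsScalarTower.toAlgHom A' B' B).toLinearMap :=
    LinearMap.ext hβπ
  rw [hπβ] at hcomp
  exact hcomp

end Inj

end LciTransLib
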